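import Cfsg.Agent.Omega.NO3S.GFF.S1.Four

/-!
# GammaFF, (S1), local form

`RadW S P R F` : the W-stage, `R` active with `C_Z(R) ≠ 1`, `P ∈ P**` with `W_F ≤ O₂(P)` (for this `F` only).

* `RadW.two` : `|Z| > 2`; `RadW.not_off` : `⟨Z^Y⟩` is not FF, `Y = ⟨P, R⟩`; `RadW.not_le_EE` : `⟨Z^Y⟩ ≰ E_F`;
* `RadW.tr` : `P ∩ N(S)` is transitive on `Z#`;
* `Rad.radW` : in the situation `Rad S` every `P ∈ P**` and every active `R` are in this situation.
-/

set_option autoImplicit false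
set_option linter.unusedSectionVars false

namespace Cfsg.Agent.Omega.NO3S.GFF.S1

open Subgroup Cfsg Cfsg.Agent.ZN Cfsg.Agent.Omega.MinPar Cfsg.Agent.Omega.Frame
open Cfsg.Agent.Omega.NO3S Cfsg.Agent.Omega.NO3S.ThmB
open Cfsg.Agent.Omega.FFThm (NatKM SymKM OffM ElemM NoOverM StmtM ConclM)
open Cfsg.Agent.Omega.FrameFF (cv)
open Cfsg.Agent.Omega.FrameNOFF (CZ)
open Cfsg.Agent.Omega.NO3S.Level (W0 WSt X0 M0 K0 M0_norm S_le_M0 par_le X0_comm X0_sq)
open Cfsg.Agent.Omega.NOne.Flat (EE)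

universe u

variable {G : Type u} [Group G] [Finite G] {S : Sylow 2 G} {P R F : Subgroup G}

/-- `P ∩ N(S)` is transitive on `Z#` for `P ∈ P**`. -/
theorem tr_zc (h : HypN S P) (hty : ThmB.Main.Ty (S : Subgroup G) P) :
    ∀ z ∈ zc (S : Subgroup G), ∀ z' ∈ zc (S : Subgroup G), z ≠ 1 → z' ≠ 1 →
      ∃ g ∈ P, g ∈ normalizer ((S : Subgroup G) : Set G) ∧ g * z * g⁻¹ = z' := by
  intro z hz z' hz' h1 h1'
  have hG := h.ctx.char2
  by_cases hne : z = z'
  · exact ⟨1, one_mem _, one_mem _, by rw [one_mul, inv_one, mul_one]; exact hne⟩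
  rcases hty with h3 | h3
  · exact absurd (h3 z hz z' hz' h1 h1') hne
  rcases h3 with ⟨F0, j1, j2, j3, k0, -, ⟨N⟩⟩ | ⟨k0, m, hk0, hm, ⟨N⟩⟩
  · have hWP : P ≤ normalizer (zl (S : Subgroup G) P : Set G) := le_normalizer_zl _ _
    have hS : ChoiceSit.Syl (S : Subgroup G) P := OneLine.syl_of h.star
    have N' := N.toNatK
    rw [h.toHyp.cv] at N'
    have hZ := ThmB.Main.zc_eq hG h.star.isLoc
    refine TrNat.tr N' hWP hS z ?_ z' ?_ h1 h1'
    · rw [hZ]; exact hz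
    · rw [hZ]; exact hz'
  · exact absurd (ThmB.Main.sym_zc hG h.star h.toHyp.cv hk0 (by omega) N.toSymK hz hz' h1 h1') hne

/-- **(S1), local form.** -/
structure RadW (S : Sylow 2 G) (P R F : Subgroup G) : Prop extends WSt S R F where
  pss : PSS (S : Subgroup G) P
  hz : zc (S : Subgroup G) ⊓ centralizer (R : Set G) ≠ ⊥
  hp : NOne.Flat.WW (X0 (S : Subgroup G)) F ≤ o2 P

theorem Rad.radW (h : Rad S) (w : WSt S R F) (hP : PSS (S : Subgroup G) P) : RadW S P R F :=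
  { toWSt := w, pss := hP, hz := h.rad R F w, hp := h.pas hP w.hyp w.WS }

namespace RadW

variable (w : RadW S P R F)
include w

theorem hypN : HypN S P := w.toHypC.hypN w.pss.par w.pss.nonLoc

/-- `|Z| > 2` -/
theorem two : ∃ z ∈ zc (S : Subgroup G), ∃ z' ∈ zc (S : Subgroup G), z ≠ 1 ∧ z' ≠ 1 ∧ z ≠ z' := by
  obtain ⟨z, hz, hz1⟩ := ThmB.Main.exists_ne w.hz
  by_contra hcon
  push Not at hcon
  apply ThmB.Main.not_cent w.par
  intro g hg
  rw [mem_centralizer_iff]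
  intro z' hz'
  by_cases h1 : z' = 1
  · rw [h1, one_mul, mul_one]
  · have e := hcon z hz.1 z' hz' hz1 h1
    rw [← e]
    exact (mem_centralizer_iff.1 hz.2 g hg).symm

/-- **`P ∩ N(S)` is transitive on `Z#`** -/
theorem tr : ∀ z ∈ zc (S : Subgroup G), ∀ z' ∈ zc (S : Subgroup G), z ≠ 1 → z' ≠ 1 →
    ∃ g ∈ P, g ∈ normalizer ((S : Subgroup G) : Set G) ∧ g * z * g⁻¹ = z' :=
  tr_zc w.hypN (w.ty P w.pss)

theorem not_le : ¬ zl (S : Subgroup G) R ≤ zl (S : Subgroup G) P := by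
  intro h1
  apply w.mv
  rw [← IsParS.inf_centralizer S w.ctx.char2 w.par]
  have h2 := w.hp
  rw [← IsParS.inf_centralizer S w.ctx.char2 w.pss.par] at h2
  exact le_inf w.WS ((h2.trans inf_le_right).trans (centralizer_le h1))

/-- `⟨Z^Y⟩` has no offender, `Y = ⟨P, R⟩`. -/
theorem not_off : ¬ ∃ A ≤ P ⊔ R, OffM (zl (S : Subgroup G) (P ⊔ R)) A :=
  S1.not_off w.hypN (w.ty P w.pss) w.par (Or.inr w.two) w.not_le

/-- `Y = ⟨P, R⟩ ≤ N_G(X₀)` -/
theorem Y_le : P ⊔ R ≤ normalizer (X0 (S : Subgroup G) : Set G) :=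
  (sup_le (par_le w.pss.par) (par_le w.par)).trans (M0_norm _)

/-- **`⟨Z^Y⟩ ≰ E_F`.** -/
theorem not_le_EE : ¬ zl (S : Subgroup G) (P ⊔ R) ≤ EE (X0 (S : Subgroup G)) F := by
  intro hE
  refine w.not_off ⟨NOne.Flat.WW (X0 (S : Subgroup G)) F, w.WS.trans (w.par.le.trans le_sup_right), ?_⟩
  have hLV : zl (S : Subgroup G) (P ⊔ R) ≤ X0 (S : Subgroup G) := hE.trans inf_le_left
  have h1 := w.hyp.elemM_W
  refine { sq := fun a ha => centralizer_le hLV (h1.sq a ha)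
           comm := fun a ha b hb => centralizer_le hLV (h1.comm a ha b hb)
           ne := fun hc => w.mv ?_
           le := FFThm.relIndex_le_iff.2 (w.hyp.off_of_le_all hE) }
  rw [← IsParS.inf_centralizer S w.ctx.char2 w.par]
  refine le_inf w.WS (hc.trans (centralizer_le ?_))
  exact ZN.zl_le ZN.zc_le_zl (le_sup_right.trans (ZN.le_normalizer_zl _ _))

end RadW

end Cfsg.Agent.Omega.NO3S.GFF.S1
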