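import Cfsg.Agent.Omega.NO3S.Level.Cut
import Cfsg.Agent.Omega.Spread.OffAll

/-!
# GammaFF (S1), helper283 #20415 (4): `V_Y` is not FF for `Y = ⟨P, R⟩`

`P ∈ P**` with `V_P` of the types of the FF theorem, `R ∈ P*(S)`, `|Z| ≥ 4` or `⟨R, C_G(Z)⟩` local, `V_R ≰ V_P`: nothing in
`Y = ⟨P, R⟩` offends on `⟨Z^Y⟩`.

* `gallery` : `M` generated by a set `TT` of members of `P*(S)`: a 2-subgroup of `M` which moves `⟨Z^M⟩` has an
  `M`-conjugate in `S` which moves some `V_P`, `P ∈ TT`;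
* `PrinT`, `exists_minOff` : the same principle for a general module `W`; no over-offender, and a minimal offender in
  `S` moves some `V_P`, `P ∈ TT`;
* `not_off` : `⟨Z^Y⟩` has no offender (minimal offenders in `O₂(P)`: THEOREM B; a minimal offender moves `V_P`:
  `⟨Z^Y⟩ = V_P`, THEOREM D);
* `Rad S` : the leaf (S1): the W-stage, and `C_Z(R) ≠ 1` whenever some `W_F ≤ S` is not in `O₂(R)`; `Rad.pas` : every
  `P ∈ P**` is passive; `Rad.two` : `|Z| > 2`;
* `Rad.not_le_EE` : `⟨Z^Y⟩ ≰ E_F`.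
-/

set_option autoImplicit false
set_option linter.unusedSectionVars false

namespace Cfsg.Agent.Omega.NO3S.GFF.S1

open Subgroup Cfsg Cfsg.Agent.ZN Cfsg.Agent.ZN.ChoiceBase Cfsg.Agent.Omega.MinPar Cfsg.Agent.Omega.Frame
open Cfsg.Agent.Omega.FrameNOFF (CZ)
open Cfsg.Agent.Omega.FFThm (OffM ElemM NoOverM StmtM ConclM)
open Cfsg.Agent.Omega.FrameFF (cv)
open Cfsg.Agent.Omega.NOThreeL.VF (fM fM_le fM_cj fM_of_le le_fM_iff fM_le_iff exists_two card_eq_rel
  fM_congr elemM_cj le_o2_of_cj)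
open Cfsg.Agent.Omega.NO3S.Level (MinOff noOver_line off_of_fM fam bfam_fam toB eq_of_min)

universe u

variable {G : Type u} [Group G] [Finite G]

/-- A 2-subgroup `A ≤ M` moving `⟨Z^M⟩`, `M = ⟨TT⟩`, moves some line `V_P^m`, `P ∈ TT`, `A ≤ S^m`. -/
theorem gallery (hc : IsCharacteristicTwoType G) (S : Sylow 2 G) {M : Subgroup G} {TT : Set (Subgroup G)}
    (hM : IsLoc (S : Subgroup G) M) (hTT : ∀ P ∈ TT, IsParS (S : Subgroup G) P) (hTM : ∀ P ∈ TT, P ≤ M)
    (hgen : M ≤ sSup TT) {A : Subgroup G} (hA : A ≤ M) (hA2 : IsPGroup 2 A)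
    (hne : ¬ A ≤ centralizer (zl (S : Subgroup G) M : Set G)) :
    ∃ m ∈ M, cj m A ≤ (S : Subgroup G) ∧ ∃ P ∈ TT, ¬ cj m A ≤ centralizer (zl (S : Subgroup G) P : Set G) := by
  by_contra hcon
  push Not at hcon
  apply hne
  let Y : Subgroup G :=
    { carrier := {g | ∀ m, cj m A ≤ (S : Subgroup G) ∧ m ∈ M ↔ cj (g * m) A ≤ (S : Subgroup G) ∧ g * m ∈ M}
      mul_mem' := by
        intro a b ha hb m
        have h1 := hb m
        have h2 := ha (b * m)
        rw [← mul_assoc] at h2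
        exact h1.trans h2
      one_mem' := by intro m; rw [one_mul]
      inv_mem' := by
        intro a ha m
        have h1 := ha (a⁻¹ * m)
        have e : a * (a⁻¹ * m) = m := by group
        rw [e] at h1
        exact h1.symm }
  have key : ∀ P ∈ TT, ∀ p ∈ P, ∀ m, cj m A ≤ (S : Subgroup G) → m ∈ M →
      cj (p * m) A ≤ (S : Subgroup G) ∧ p * m ∈ M := by
    intro P hP p hp m hm hmM
    refine ⟨?_, mul_mem (hTM P hP hp) hmM⟩
    have h1 := hcon m hmM hm P hP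
    have h2 : cj m A ≤ o2 P := by
      rw [← (hTT P hP).inf_centralizer S hc]
      exact le_inf hm h1
    rw [← cj_cj]
    exact Level.conj_le_of_le_o2 (hTT P hP).toIsPar h2 hp
  have hY : ∀ P ∈ TT, P ≤ Y := by
    intro P hP p hp m
    constructor
    · rintro ⟨h1, h2⟩
      exact key P hP p hp m h1 h2
    · rintro ⟨h1, h2⟩
      have h3 := key P hP p⁻¹ (inv_mem hp) (p * m) h1 h2
      have e : p⁻¹ * (p * m) = m := by group
      rwa [e] at h3
  have hMY : M ≤ Y := hgen.trans (sSup_le hY)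
  -- `A` has a conjugate in `S`
  obtain ⟨m₀, hm₀, hm₀S⟩ := FFThm.exists_conj_le S hM.le hA2 hA
  have h5 : ∀ m ∈ M, cj m⁻¹ A ≤ (S : Subgroup G) := by
    intro m hm
    have h1 := ((hMY (mul_mem (inv_mem hm) (inv_mem hm₀))) m₀).1 ⟨hm₀S, hm₀⟩
    have e : m⁻¹ * m₀⁻¹ * m₀ = m⁻¹ := by group
    rw [e] at h1
    exact h1.1
  have h6 := le_o2_of_cj S hM.le h5
  have h7 := hM.zl_le S hc
  exact (h6.trans (le_centralizer_zc _)).trans (centralizer_le h7)

variable {S : Sylow 2 G} {M W P R : Subgroup G} {TT : Set (Subgroup G)}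

/-- The principle for `M`, `W` and the types `TT`. -/
def PrinT (S : Sylow 2 G) (TT : Set (Subgroup G)) (M W : Subgroup G) : Prop :=
  ∀ B ≤ M, IsPGroup 2 B → ¬ B ≤ centralizer (W : Set G) → ∃ m ∈ M, cj m B ≤ (S : Subgroup G) ∧
    ∃ P ∈ TT, ¬ cj m B ≤ centralizer (zl (S : Subgroup G) P : Set G)

/-- No over-offender on `W`, and a minimal offender in `S` moves some `V_P`, `P ∈ TT`. -/
theorem exists_minOff (hFF : StmtM.{u}) (hc : IsCharacteristicTwoType G) (hMW : M ≤ normalizer (W : Set G))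
    (hTT : ∀ P ∈ TT, IsParS (S : Subgroup G) P)
    (hVW : ∀ P ∈ TT, zl (S : Subgroup G) P ≤ W) (hprin : PrinT S TT M W)
    (hoff : ∃ A ≤ M, OffM W A) :
    NoOverM W M ∧ ∃ A ≤ (S : Subgroup G), MinOff W M A ∧
      ∃ P ∈ TT, ¬ A ≤ centralizer (zl (S : Subgroup G) P : Set G) := by
  classical
  let 𝒞 : Set (Subgroup G) := {B | B ≤ M ∧ IsPGroup 2 B ∧ ElemM W B ∧ ¬ B ≤ centralizer (W : Set G)}
  have hrep : ∀ A ≤ M, ElemM W A → ¬ A ≤ centralizer (W : Set G) → ∃ B ∈ 𝒞, fM W B = fM W A := by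
    intro A hA hE hne
    obtain ⟨B, hB, hB2, h⟩ := exists_two (hA.trans hMW) hE
    refine ⟨B, ⟨hB.trans hA, hB2, NOThreeL.VF.elemM_mono hE hB, fun h1 => hne fun a ha => ?_⟩, fM_congr hB h⟩
    obtain ⟨b, hb, hab⟩ := h a ha
    have h2 := mul_mem (h1 hb) hab
    have e : b * (b⁻¹ * a) = a := by group
    rwa [e] at h2
  obtain ⟨A₀, hA₀M, hA₀⟩ := hoff
  obtain ⟨B₀, hB₀, hfB₀⟩ := hrep A₀ hA₀M hA₀.toElemM hA₀.ne
  have hVf₀ : Nat.card W ≤ fM W B₀ := by
    rw [hfB₀]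
    exact le_fM_iff.2 hA₀.le
  -- no over-offender
  have hNO : NoOverM W M := by
    obtain ⟨B₁, hB₁, hmax⟩ := Set.exists_max_image 𝒞 (fM W) (Set.toFinite _) ⟨B₀, hB₀⟩
    obtain ⟨B, ⟨hB, hBf⟩, hmin⟩ := Set.exists_min_image {B | B ∈ 𝒞 ∧ fM W B = fM W B₁}
      (fun B => (centralizer (W : Set G)).relIndex B) (Set.toFinite _) ⟨B₁, hB₁, rfl⟩
    obtain ⟨m, hm, hmS, P, hP, hmP⟩ := hprin B hB.1 hB.2.1 hB.2.2.2
    have hcj := fM_cj (A := B) (hMW hm)
    have hWV := hVW P hP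
    have hCVW : centralizer (W : Set G) ≤ centralizer (zl (S : Subgroup G) P : Set G) := centralizer_le hWV
    set A : Subgroup G := cj m B with hAd
    have hAM : A ≤ M := by
      have h1 := cj_mono m hB.1
      rwa [cj_eq_of_mem_normalizer (le_normalizer hm)] at h1
    have hAE : ElemM W A := elemM_cj (hMW hm) hB.2.2.1
    have hAW : ElemM (zl (S : Subgroup G) P) A :=
      ⟨fun a ha => hCVW (hAE.sq a ha), fun a ha b hb => hCVW (hAE.comm a ha b hb)⟩
    have hfA : fM W A = fM W B₁ := hcj.1.trans hBf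
    have hle := fM_le hWV (noOver_line hFF hc (hTT P hP) (hmS.trans (hTT P hP).le) hAW hmP)
    set A₁ : Subgroup G := A ⊓ centralizer (zl (S : Subgroup G) P : Set G) with hA₁
    have hA₁V : A₁ ≤ centralizer (W : Set G) := by
      by_contra hcon
      have hmem : A₁ ∈ 𝒞 := ⟨inf_le_left.trans hAM, (S.isPGroup'.to_le hmS).to_le inf_le_left,
        NOThreeL.VF.elemM_mono hAE inf_le_left, hcon⟩
      have h1 := hmax A₁ hmem
      have h2 : fM W A₁ = fM W B₁ := le_antisymm h1 (hfA ▸ hle)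
      have h3 := hmin A₁ ⟨hmem, h2⟩
      rw [← hcj.2] at h3
      have e4 : A₁ ⊓ centralizer (W : Set G) = A ⊓ centralizer (W : Set G) := by
        rw [hA₁, inf_assoc, inf_eq_right.2 hCVW]
      have h4 : Nat.card A ≤ Nat.card A₁ := by
        rw [card_eq_rel W A, card_eq_rel W A₁, e4]
        exact Nat.mul_le_mul_right _ h3
      have h5 : A₁ = A := Subgroup.eq_of_le_of_card_ge inf_le_left h4
      exact hmP (inf_eq_left.1 h5)
    have hfB₁ : fM W B₁ ≤ Nat.card W := by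
      rw [← hfA, ← fM_of_le hA₁V]
      exact hle
    intro D hD hE
    rw [← fM_le_iff]
    by_cases hne : D ≤ centralizer (W : Set G)
    · exact (fM_of_le hne).le
    · obtain ⟨B', hB', h1⟩ := hrep D hD hE hne
      rw [← h1]
      exact (hmax B' hB').trans hfB₁
  refine ⟨hNO, ?_⟩
  have hne : {B | B ≤ M ∧ IsPGroup 2 B ∧ OffM W B}.Nonempty :=
    ⟨B₀, hB₀.1, hB₀.2.1, off_of_fM hB₀.2.2.1 hB₀.2.2.2 hVf₀⟩
  obtain ⟨B, ⟨hB1, hB2, hB3⟩, hmin⟩ := Set.exists_min_image _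
    (fun B => (centralizer (W : Set G)).relIndex B) (Set.toFinite _) hne
  have mB : MinOff W M B := ⟨hB1, hB2, hB3, fun D hD hD2 hDo => hmin D ⟨hD, hD2, hDo⟩⟩
  obtain ⟨m, hm, hmS, P, hP, hmP⟩ := hprin B hB1 hB2 hB3.ne
  exact ⟨cj m B, hmS, mB.cj hm hMW, P, hP, hmP⟩

/-- **#20415 (4)**: `⟨Z^Y⟩`, `Y = ⟨P, R⟩`, is not FF. -/
theorem not_off (h : HypN S P) (hty : ThmB.Main.Ty (S : Subgroup G) P) (hR : IsParS (S : Subgroup G) R)
    (hloc : ¬ NonLoc R (CZ (S : Subgroup G)) ∨ ∃ z ∈ zc (S : Subgroup G), ∃ z' ∈ zc (S : Subgroup G), z ≠ 1 ∧ z' ≠ 1 ∧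
      z ≠ z') (hne : ¬ zl (S : Subgroup G) R ≤ zl (S : Subgroup G) P) :
    ¬ ∃ A ≤ P ⊔ R, OffM (zl (S : Subgroup G) (P ⊔ R)) A := by
  intro hoff
  have hc := h.ctx.char2
  have hL := ThmB.Main.isLoc_sup hc h.noFF h.star hR
  set W : Subgroup G := zl (S : Subgroup G) (P ⊔ R) with hW
  have hMW : P ⊔ R ≤ normalizer (W : Set G) := ZN.le_normalizer_zl _ _
  have hVP : zl (S : Subgroup G) P ≤ W := ZN.zl_le ZN.zc_le_zl (le_sup_left.trans hMW)
  have hVR : zl (S : Subgroup G) R ≤ W := ZN.zl_le ZN.zc_le_zl (le_sup_right.trans hMW)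
  have hWE : IsElementaryAbelian 2 W := ThmB.Inst.zl_sup_el hc hL
  have hWc : W ≤ centralizer (W : Set G) := fun x hx => mem_centralizer_iff.2 fun y hy =>
    ThmB.elem_comm hWE hy hx
  have hTT : ∀ Q ∈ ({P, R} : Set (Subgroup G)), IsParS (S : Subgroup G) Q := by
    rintro Q (rfl | rfl)
    · exact h.star
    · exact hR
  have hTW : ∀ Q ∈ ({P, R} : Set (Subgroup G)), zl (S : Subgroup G) Q ≤ W := by
    rintro Q (rfl | rfl)
    · exact hVP
    · exact hVR
  have hprin : PrinT S {P, R} (P ⊔ R) W := by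
    intro B hB hB2 hBW
    refine gallery hc S hL hTT ?_ ?_ hB hB2 hBW
    · rintro Q (rfl | rfl)
      · exact le_sup_left
      · exact le_sup_right
    · exact sup_le (le_sSup (Or.inl rfl)) (le_sSup (Or.inr rfl))
  obtain ⟨no, A, hAS, m, Q, hQ, hAQ⟩ := exists_minOff FF.Glob.ffthmM hc hMW hTT hTW hprin hoff
  by_cases hcon : ∀ B ≤ (S : Subgroup G), MinOff W (P ⊔ R) B → B ≤ centralizer (zl (S : Subgroup G) P : Set G)
  · -- THEOREM B
    have hQR : Q = R := by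
      rcases hQ with rfl | rfl
      · exact absurd (hcon A hAS m) hAQ
      · rfl
    rw [hQR] at hAQ
    have h1 : ∀ B ∈ fam (S : Subgroup G) W (P ⊔ R), B ≤ o2 P := by
      intro B hB
      rw [← IsParS.inf_centralizer S hc h.star]
      refine le_inf hB.1 ?_
      rcases hB.2 with mB | hB2
      · exact hcon B hB.1 mB
      · exact hB2.trans (centralizer_le hVP)
    have h2 := ThmB.Main.le_of_bfam h hty hR hloc (toB (bfam_fam (S := S) hMW no)) h1 A ⟨hAS, Or.inl m⟩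
    rw [← IsParS.inf_centralizer S hc hR] at h2
    exact hAQ (h2.trans inf_le_right)
  · push Not at hcon
    obtain ⟨B, hBS, mB, hBP⟩ := hcon
    have e := eq_of_min FF.Glob.ffthmM hc h.star le_sup_left h.toHyp.cv hWc
      (fun x hx => (ChoiceBase.mem_zc.1 (ThmB.Inst.zl_sup_le hc hL hx)).2.1) hMW hVP
      (ThmB.Inst.zl_sup_S hc hL) no mB hBS hBP
    exact hne (hVR.trans e.le)

/-! ### The leaf (S1) -/

open Cfsg.Agent.Omega.NO3S.Level (W0 WSt X0 M0 K0 M0_norm S_le_M0 par_le X0_comm X0_sq)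
open Cfsg.Agent.Omega.NOne.Flat (EE)

/-- **(S1)**: the W-stage with radicals: all active members of `P*(S)` have `C_Z(R) ≠ 1`. -/
structure Rad (S : Sylow 2 G) : Prop extends W0 S where
  rad : ∀ R F, WSt S R F → zc (S : Subgroup G) ⊓ centralizer (R : Set G) ≠ ⊥

namespace Rad

variable (h : Rad S)
include h

/-- Every `P ∈ P**` is passive. -/
theorem pas {F : Subgroup G} (hP : PSS (S : Subgroup G) P) (hyp : NOne.Flat.Hyp (X0 (S : Subgroup G)) F)
    (WS : NOne.Flat.WW (X0 (S : Subgroup G)) F ≤ (S : Subgroup G)) : NOne.Flat.WW (X0 (S : Subgroup G)) F ≤ o2 P := by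
  by_contra hcon
  exact h.rad P F { toW0 := h.toW0, par := hP.par, hyp := hyp, WS := WS, mv := hcon }
    (h.toHypC.hypN hP.par hP.nonLoc).toHyp.inf_eq_bot

/-- `|Z| > 2` -/
theorem two {F : Subgroup G} (w : WSt S R F) : ∃ z ∈ zc (S : Subgroup G), ∃ z' ∈ zc (S : Subgroup G), z ≠ 1 ∧
    z' ≠ 1 ∧ z ≠ z' := by
  obtain ⟨z, hz, hz1⟩ := ThmB.Main.exists_ne (h.rad R F w)
  by_contra hcon
  push Not at hcon
  apply ThmB.Main.not_cent w.par
  intro g hg
  rw [mem_centralizer_iff]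
  intro z' hz'
  by_cases h1 : z' = 1
  · rw [h1, one_mul, mul_one]
  · have e := hcon z hz.1 z' hz' hz1 h1
    rw [← e]
    exact (mem_centralizer_iff.1 hz.2 g hg).symm

/-- `V_R ≰ V_P` for `R` active, `P ∈ P**`. -/
theorem not_le {F : Subgroup G} (w : WSt S R F) (hP : PSS (S : Subgroup G) P) :
    ¬ zl (S : Subgroup G) R ≤ zl (S : Subgroup G) P := by
  intro h1
  apply w.mv
  rw [← IsParS.inf_centralizer S h.ctx.char2 w.par]
  have h2 := h.pas hP w.hyp w.WS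
  rw [← IsParS.inf_centralizer S h.ctx.char2 hP.par] at h2
  exact le_inf w.WS ((h2.trans inf_le_right).trans (centralizer_le h1))

/-- `⟨Z^Y⟩` has no offender, `Y = ⟨P, R⟩`. -/
theorem not_off {F : Subgroup G} (w : WSt S R F) (hP : PSS (S : Subgroup G) P) :
    ¬ ∃ A ≤ P ⊔ R, OffM (zl (S : Subgroup G) (P ⊔ R)) A :=
  S1.not_off (h.toHypC.hypN hP.par hP.nonLoc) (h.ty P hP) w.par (Or.inr (h.two w)) (h.not_le w hP)

/-- `Y = ⟨P, R⟩ ≤ N_G(X₀)` -/
theorem Y_le {F : Subgroup G} (w : WSt S R F) (hP : PSS (S : Subgroup G) P) :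
    P ⊔ R ≤ normalizer (X0 (S : Subgroup G) : Set G) :=
  (sup_le (par_le hP.par) (par_le w.par)).trans (M0_norm _)

/-- **`⟨Z^Y⟩ ≰ E_F`.** -/
theorem not_le_EE {F : Subgroup G} (w : WSt S R F) (hP : PSS (S : Subgroup G) P) :
    ¬ zl (S : Subgroup G) (P ⊔ R) ≤ EE (X0 (S : Subgroup G)) F := by
  intro hE
  refine h.not_off w hP ⟨NOne.Flat.WW (X0 (S : Subgroup G)) F, w.WS.trans (w.par.le.trans le_sup_right), ?_⟩
  have hLV : zl (S : Subgroup G) (P ⊔ R) ≤ X0 (S : Subgroup G) := hE.trans inf_le_left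
  have h1 := w.hyp.elemM_W
  refine { sq := fun a ha => centralizer_le hLV (h1.sq a ha)
           comm := fun a ha b hb => centralizer_le hLV (h1.comm a ha b hb)
           ne := fun hc => w.mv ?_
           le := FFThm.relIndex_le_iff.2 (w.hyp.off_of_le_all hE) }
  rw [← IsParS.inf_centralizer S h.ctx.char2 w.par]
  refine le_inf w.WS (hc.trans (centralizer_le ?_))
  exact ZN.zl_le ZN.zc_le_zl (le_sup_right.trans (ZN.le_normalizer_zl _ _))

end Rad

end Cfsg.Agent.Omega.NO3S.GFF.S1
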